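import Mathlib.AlgebraicGeometry.Morphisms.Immersion
import Mathlib.AlgebraicGeometry.Morphisms.Finite
import Mathlib.AlgebraicGeometry.Morphisms.QuasiFinite
import Mathlib.AlgebraicGeometry.ResidueField
import Mathlib.AlgebraicGeometry.Stalk

/-!
# Rational points: two small lemmas

* `section_ext`: a rational point of a scheme over a field is determined by its underlying point.
* `exists_lift_residueField`: for a preimmersion `f`, the residue field point of `f x` factors through `f`.
-/

set_option autoImplicit false
universe u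

open CategoryTheory CategoryTheory.Limits AlgebraicGeometry

namespace Groth.Agent.Sga7.H270.FinPts

theorem isIso_residueFieldMap {X Y : Scheme.{u}} (f : X ⟶ Y) [IsPreimmersion f] (x : X) :
    IsIso (f.residueFieldMap x) := by
  rw [ConcreteCategory.isIso_iff_bijective]
  refine ⟨(f.residueFieldMap x).hom.injective, ?_⟩
  have h1 : Function.Surjective (Y.residue (f x) ≫ f.residueFieldMap x) := by
    rw [Scheme.residue_residueFieldMap]
    exact (X.residue_surjective x).comp (f.stalkMap_surjective x)
  have h2 : Function.Surjective ((f.residueFieldMap x) ∘ (Y.residue (f x))) := h1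
  exact Function.Surjective.of_comp h2

theorem exists_lift_residueField {X Y : Scheme.{u}} (f : X ⟶ Y) [IsPreimmersion f] (x : X) :
    ∃ g' : Spec (Y.residueField (f x)) ⟶ X, g' ≫ f = Y.fromSpecResidueField (f x) := by
  have := isIso_residueFieldMap f x
  refine ⟨Spec.map (inv (f.residueFieldMap x)) ≫ X.fromSpecResidueField x, ?_⟩
  rw [Category.assoc, ← Scheme.Hom.SpecMap_residueFieldMap_fromSpecResidueField, ← Category.assoc,
    ← Spec.map_comp, IsIso.hom_inv_id, Spec.map_id, Category.id_comp]

theorem section_aux {k : Type u} [Field k] {X : Scheme.{u}} (p : X ⟶ Spec (CommRingCat.of k))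
    (x : Spec (CommRingCat.of k) ⟶ X) (hx : x ≫ p = 𝟙 _) (z : X)
    (hz : z = x (IsLocalRing.closedPoint k)) :
    IsIso (X.fromSpecResidueField z ≫ p) ∧
      X.fromSpecResidueField z = (X.fromSpecResidueField z ≫ p) ≫ x := by
  subst hz
  have h1 := Scheme.descResidueField_stalkClosedPointTo_fromSpecResidueField k X x
  set d := Scheme.descResidueField (Scheme.stalkClosedPointTo x) with hd
  obtain ⟨ρ, hρ⟩ := Spec.map_surjective
    (X.fromSpecResidueField (x (IsLocalRing.closedPoint k)) ≫ p)
  have h2 : ρ ≫ d = 𝟙 _ := by
    apply Spec.map_injective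
    rw [Spec.map_comp, hρ, ← Category.assoc]
    refine (congrArg (· ≫ p) h1).trans ?_
    rw [hx]
    exact (Spec.map_id _).symm
  have h3 : Mono d := ConcreteCategory.mono_of_injective _ (RingHom.injective _)
  have h4 : d ≫ ρ = 𝟙 _ := by
    rw [← cancel_mono d, Category.assoc, h2, Category.comp_id, Category.id_comp]
  have h5 : IsIso ρ := ⟨d, h2, h4⟩
  rw [← hρ]
  refine ⟨inferInstance, ?_⟩
  refine Eq.trans ?_ (congrArg (Spec.map ρ ≫ ·) h1)
  rw [← Category.assoc, ← Spec.map_comp, h4, Spec.map_id, Category.id_comp]

/-- A rational point of a scheme over a field is determined by its underlying point. -/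
theorem section_ext {k : Type u} [Field k] {X : Scheme.{u}} (p : X ⟶ Spec (CommRingCat.of k))
    (x y : Spec (CommRingCat.of k) ⟶ X) (hx : x ≫ p = 𝟙 _) (hy : y ≫ p = 𝟙 _)
    (h : x (IsLocalRing.closedPoint k) = y (IsLocalRing.closedPoint k)) : x = y := by
  obtain ⟨h1, h2⟩ := section_aux p x hx _ rfl
  obtain ⟨-, h3⟩ := section_aux p y hy (x (IsLocalRing.closedPoint k)) h
  rw [← cancel_epi (X.fromSpecResidueField (x (IsLocalRing.closedPoint k)) ≫ p), ← h2]
  exact h3

/-- A scheme finite over a field has finitely many points. -/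
theorem finite_of_isFinite {k : Type u} [Field k] {Z : Scheme.{u}} (p : Z ⟶ Spec (CommRingCat.of k))
    [IsFinite p] : Finite Z := by
  have h1 := p.finite_preimage_singleton (IsLocalRing.closedPoint k)
  exact Set.finite_univ_iff.1 (h1.subset fun a _ =>
    Subsingleton.elim (α := Spec (CommRingCat.of k)) _ _)

end Groth.Agent.Sga7.H270.FinPts
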