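import Groth.Agent.Grpsch.CubeTriv
import Groth.Agent.Grpsch.MulFin
import Groth.Agent.Sga7.H730.Tr
import Groth.Agent.Sga7.H270.FinPts

/-!
# Finiteness of the stabiliser of an ample class on an abelian variety

* `exists_locus`: for an abelian variety `A` over a field and a class `c` on `A`, there is a closed immersion
  `j : Z ⟶ A` such that `g : T ⟶ A` factors through `j` iff the Mumford class of `c` is trivial on `A × T`.
* `finite_stab`: for `L` ample, only finitely many rational points `x` satisfy `t_x^* L ≅ L`.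
-/

set_option autoImplicit false
universe u

open CategoryTheory CategoryTheory.Limits MonoidalCategory CartesianMonoidalCategory AlgebraicGeometry
open scoped MonObj

namespace Groth.Agent.Sga7.H270.FinStab

open Groth.Agent.Grpsch.PicGrp Groth.Agent.Grpsch.Cube Groth.Agent.Grpsch.CubeData Groth.Agent.Sga7.H730.Tr
open Groth.Agent.Fdesc Groth.Agent.Fdesc.LocGen

variable {k : Type u} [Field k] {A : Over (Spec (CommRingCat.of k))} [GrpObj A]

section

variable (A)

/-- The product `A × A`. -/
noncomputable abbrev PO : Over (Spec (CommRingCat.of k)) := Over.mk (pullback.fst A.hom A.hom ≫ A.hom)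

/-- first projection -/
noncomputable def q1 : PO A ⟶ A := Over.homMk (pullback.fst A.hom A.hom) rfl

/-- second projection -/
noncomputable def q2 : PO A ⟶ A := Over.homMk (pullback.snd A.hom A.hom) pullback.condition.symm

end

/-- The Mumford class of `c` (first factor: the variable, second factor: the translation). -/
noncomputable def Lam (c : Pic A.left) : Pic (pullback A.hom A.hom) :=
  pl (q2 A * q1 A) c * (pl (q1 A) c)⁻¹ * (pl (q2 A) c)⁻¹

theorem pull_Lam (c : Pic A.left) {W : Over (Spec (CommRingCat.of k))} (a b : W ⟶ A)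
    (σ : W.left ⟶ pullback A.hom A.hom) (h1 : σ ≫ pullback.fst _ _ = a.left)
    (h2 : σ ≫ pullback.snd _ _ = b.left) :
    pull σ (Lam c) = pl (b * a) c * (pl a c)⁻¹ * (pl b c)⁻¹ := by
  let σ' : W ⟶ PO A := Over.homMk σ (by
    change σ ≫ pullback.fst _ _ ≫ A.hom = W.hom
    rw [← Category.assoc, h1, Over.w])
  have e1 : σ' ≫ q1 A = a := by ext1; exact h1
  have e2 : σ' ≫ q2 A = b := by ext1; exact h2
  change pl σ' (Lam c) = _
  simp only [Lam, map_mul, map_inv, ← pl_comp, MonObj.comp_mul, e1, e2]

theorem triv_iff_mk {X : Scheme.{u}} {L : X.Modules} (hL : PicF.IsInvertible L) : Triv L ↔ mk L hL = 1 :=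
  (mk_eq_one_iff hL).symm

theorem triv_pullback_iff {X Y : Scheme.{u}} (f : X ⟶ Y) {L : Y.Modules} (hL : PicF.IsInvertible L) :
    Triv ((Scheme.Modules.pullback f).obj L) ↔ pull f (mk L hL) = 1 := by
  rw [triv_iff_mk (isInvertible_pullback f hL), pull_mk f hL]

/-- Being pulled back from the base is the same as being trivial, for the Mumford class. -/
theorem exists_iff (c : Pic A.left) (E : (pullback A.hom A.hom).Modules) (hE : PicF.IsInvertible E)
    (hc : Lam c = mk E hE) {T : Scheme.{u}} (g : T ⟶ A.left) :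
    (∃ N : T.Modules, FlatMod.IsFinLocFree N ∧
      Nonempty ((Scheme.Modules.pullback (pullback.snd (pullback.snd A.hom A.hom) g)).obj N ≅
        (Scheme.Modules.pullback (pullback.fst (pullback.snd A.hom A.hom) g)).obj E)) ↔
      Triv ((Scheme.Modules.pullback (pullback.fst (pullback.snd A.hom A.hom) g)).obj E) := by
  constructor
  · rintro ⟨N, -, ⟨e⟩⟩
    let τ : T ⟶ pullback A.hom A.hom := pullback.lift ((g ≫ A.hom) ≫ e₀ A) g (by
      rw [Category.assoc, e₀_hom, Category.comp_id])
    let σ : T ⟶ pullback (pullback.snd A.hom A.hom) g := pullback.lift τ (𝟙 T) (by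
      rw [pullback.lift_snd, Category.id_comp])
    have h1 : Triv ((Scheme.Modules.pullback σ).obj
        ((Scheme.Modules.pullback (pullback.fst (pullback.snd A.hom A.hom) g)).obj E)) := by
      rw [← triv_comp, triv_congr (pullback.lift_fst _ _ _), triv_pullback_iff τ hE, ← hc]
      let W : Over (Spec (CommRingCat.of k)) := Over.mk (g ≫ A.hom)
      let b : W ⟶ A := Over.homMk g rfl
      have h3 := pull_Lam c (W := W) 1 b τ (pullback.lift_fst _ _ _) (pullback.lift_snd _ _ _)
      rw [h3, mul_one, pl_one, inv_one, mul_one, mul_inv_cancel]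
    have h2 : Triv ((Scheme.Modules.pullback σ).obj
        ((Scheme.Modules.pullback (pullback.snd (pullback.snd A.hom A.hom) g)).obj N)) :=
      h1.of_iso ((Scheme.Modules.pullback σ).mapIso e)
    rw [← triv_comp, triv_congr (pullback.lift_snd _ _ _), triv_id] at h2
    exact (h2.pullback _).of_iso e.symm
  · rintro ⟨e⟩
    refine ⟨Coh.structureModule T, Grpsch.CubeClosed.isFinLocFree_of_isInvertible
      isInvertible_structureModule, ?_⟩
    obtain ⟨i⟩ : Triv ((Scheme.Modules.pullback (pullback.snd (pullback.snd A.hom A.hom) g)).obj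
      (Coh.structureModule T)) := Triv.pullback _ ⟨Iso.refl _⟩
    exact ⟨i ≪≫ e.symm⟩

/-- The closed subscheme of `A` over which the Mumford class of `c` is trivial. -/
theorem exists_locus [IsProper A.hom] [GeometricallyIntegral A.hom] (c : Pic A.left) :
    ∃ (Z : Scheme.{u}) (j : Z ⟶ A.left), IsClosedImmersion j ∧
      ∀ (T : Scheme.{u}) (g : T ⟶ A.left), (∃ g', g' ≫ j = g) ↔
        pull (pullback.fst (pullback.snd A.hom A.hom) g) (Lam c) = 1 := by
  obtain ⟨E, hE, hc⟩ := exists_mk (Lam c)
  have hlfp : LocallyOfFinitePresentation A.hom := inferInstance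
  obtain ⟨Z, j, hj1, hj2, hj⟩ := S1431.result (pullback.snd A.hom A.hom)
    (fun T g U => isIso_app (pullback.snd (pullback.snd A.hom A.hom) g) U) E
    (Grpsch.CubeClosed.isFinLocFree_of_isInvertible hE)
  have key : ∀ (T : Scheme.{u}) (g : T ⟶ A.left), (∃ g', g' ≫ j = g) ↔
      Triv ((Scheme.Modules.pullback (pullback.fst (pullback.snd A.hom A.hom) g)).obj E) :=
    fun T g => (hj T g).trans (exists_iff c E hE hc g)
  have hrange : Set.range j = {z : A.left | Nonempty
      ((Scheme.Modules.pullback ((pullback.snd A.hom A.hom).fiberι z)).obj E ≅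
        Coh.structureModule ((pullback.snd A.hom A.hom).fiber z))} := by
    ext z
    have h1 := key _ (A.left.fromSpecResidueField z)
    constructor
    · rintro ⟨w, rfl⟩
      exact h1.mp (FinPts.exists_lift_residueField j w)
    · intro hz
      obtain ⟨g', hg'⟩ := h1.mpr hz
      obtain ⟨pt⟩ : Nonempty (Spec (A.left.residueField z)) := inferInstance
      refine ⟨g' pt, ?_⟩
      rw [← Scheme.Hom.comp_apply, hg', Scheme.fromSpecResidueField_apply]
  have hclosed : IsClosed (Set.range j) := by
    rw [hrange]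
    exact Grpsch.CubeClosed.isClosed_trivialLocus (pullback.snd A.hom A.hom) E hE
  refine ⟨Z, j, ?_, fun T g => (key T g).trans (by rw [triv_pullback_iff _ hE, ← hc])⟩
  exact IsClosedImmersion.of_isPreimmersion j hclosed

/-- The locus is finite over `k` if the class is ample. -/
theorem isFinite_locus [IsProper A.hom] [GeometricallyIntegral A.hom] (L : A.left.Modules)
    (hamp : CohB1.IsAmple L) {Z : Scheme.{u}} (j : Z ⟶ A.left) [IsClosedImmersion j]
    (h : pull (pullback.fst (pullback.snd A.hom A.hom) j) (Lam (mk L hamp.1)) = 1) :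
    IsFinite (j ≫ A.hom) := by
  set c := mk L hamp.1 with hc
  -- the class is anti-symmetric on `Z`
  let W : Over (Spec (CommRingCat.of k)) := Over.mk (j ≫ A.hom)
  let b : W ⟶ A := Over.homMk j rfl
  have hb : pl b c * pl b⁻¹ c = 1 := by
    let τ : Z ⟶ pullback A.hom A.hom := pullback.lift (b⁻¹).left j (Over.w b⁻¹)
    let σ : Z ⟶ pullback (pullback.snd A.hom A.hom) j := pullback.lift τ (𝟙 Z) (by
      rw [pullback.lift_snd, Category.id_comp])
    have h1 : pull τ (Lam c) = 1 := by
      have h2 : pull σ (pull (pullback.fst (pullback.snd A.hom A.hom) j) (Lam c)) = 1 := by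
        rw [h, map_one]
      rw [← pull_comp, pullback.lift_fst] at h2
      exact h2
    have h3 := pull_Lam c (W := W) b⁻¹ b τ (pullback.lift_fst _ _ _) (pullback.lift_snd _ _ _)
    rw [h3, mul_inv_cancel, pl_one, one_mul, ← mul_inv, inv_eq_one] at h1
    rw [mul_comm]
    exact h1
  have := Grpsch.MulFin.isIso_inv_left A
  have hL2 : CohB1.IsAmple ((Scheme.Modules.pullback ((𝟙 A)⁻¹ : A ⟶ A).left).obj L) :=
    Groth.Agent.Sga5.AmpleFib.isAmple_pullback _ hamp
  have hM : CohB1.IsAmple (CohB1.tensorMod L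
      ((Scheme.Modules.pullback ((𝟙 A)⁻¹ : A ⟶ A).left).obj L)) :=
    Groth.Agent.Ega2.Weight.isAmple_tensorMod hamp hL2.1 fun x ↦ by
      obtain ⟨m, s, hs, -⟩ := hL2.2.2 x
      exact ⟨m, s, hs⟩
  have hMj := Groth.Agent.Sga5.AmpleFib.isAmple_pullback j hM
  have hmk : mk _ hMj.1 = 1 := by
    have h1 : mk _ hM.1 = c * pl (𝟙 A)⁻¹ c := by
      rw [hc, pull_mk _ hamp.1, mk_mul_mk]
    rw [← pull_mk j hM.1, h1]
    change pl b (c * pl (𝟙 A)⁻¹ c) = 1
    rw [map_mul, ← pl_comp, GrpObj.comp_inv, Category.comp_id]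
    exact hb
  obtain ⟨e⟩ := (mk_eq_one_iff hMj.1).1 hmk
  obtain ⟨e'⟩ : Triv ((Scheme.Modules.pullback (j ≫ A.hom)).obj
    (Coh.structureModule (Spec (CommRingCat.of k)))) := Triv.pullback _ ⟨Iso.refl _⟩
  have h4 := Groth.Agent.Flat2H.FamDict.isAmple_of_iso (e ≪≫ e'.symm) hMj
  have hsep : Z.IsSeparated := by
    constructor
    have h6 : IsSeparated ((j ≫ A.hom) ≫ Limits.terminal.from _) := inferInstance
    rwa [Subsingleton.elim (Limits.terminal.from Z) ((j ≫ A.hom) ≫ Limits.terminal.from _)]
  exact Groth.Agent.Sga5.AmpleFib.isFinite_of_isAmple_pullback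
    (fun Z _ _ h ↦ (Groth.Agent.S2336.result Z).mpr h) _ isInvertible_structureModule h4

/-- A rational point stabilising `c` lies in the locus. -/
theorem pull_fst_eq_one (c : Pic A.left) (x : 𝟙_ (Over (Spec (CommRingCat.of k))) ⟶ A)
    (hx : pl (tr x) c = c) : pull (pullback.fst (pullback.snd A.hom A.hom) x.left) (Lam c) = 1 := by
  let W : Over (Spec (CommRingCat.of k)) :=
    Over.mk (pullback.fst (pullback.snd A.hom A.hom) x.left ≫ pullback.fst A.hom A.hom ≫ A.hom)
  let a : W ⟶ A := Over.homMk (pullback.fst (pullback.snd A.hom A.hom) x.left ≫ pullback.fst A.hom A.hom)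
    (Category.assoc _ _ _)
  let b : W ⟶ A := Over.homMk (pullback.fst (pullback.snd A.hom A.hom) x.left ≫ pullback.snd A.hom A.hom)
    ((Category.assoc _ _ _).trans (congrArg (_ ≫ ·) pullback.condition.symm))
  have hxw : x.left ≫ A.hom = 𝟙 _ := Over.w x
  have hW : W.hom = pullback.snd (pullback.snd A.hom A.hom) x.left := by
    change pullback.fst (pullback.snd A.hom A.hom) x.left ≫ pullback.fst A.hom A.hom ≫ A.hom = _
    rw [pullback.condition (f := A.hom) (g := A.hom), ← Category.assoc,
      pullback.condition (f := pullback.snd A.hom A.hom) (g := x.left), Category.assoc, hxw]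
    exact Category.comp_id _
  have hb : b = toUnit W ≫ x := by
    ext1
    change pullback.fst (pullback.snd A.hom A.hom) x.left ≫ pullback.snd A.hom A.hom = W.hom ≫ x.left
    rw [hW, pullback.condition]
  have h1 := pull_Lam c (W := W) a b (pullback.fst (pullback.snd A.hom A.hom) x.left) rfl rfl
  have h2 : b * a = a ≫ tr x := by rw [comp_tr, hb]
  have h3 : pl x c = 1 := pic_spec_local k _
  rw [h1, h2, pl_comp, hx, mul_inv_cancel, one_mul, hb, pl_comp, h3, map_one, inv_one]

/-- **Finiteness of the stabiliser** of an ample module on an abelian variety, rational points. -/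
theorem finite_stab (k : Type u) [Field k] (A : Over (Spec (CommRingCat.of k))) [GrpObj A]
    [IsProper A.hom] [GeometricallyIntegral A.hom] (L : A.left.Modules) (hamp : CohB1.IsAmple L) :
    Set.Finite {x : 𝟙_ (Over (Spec (CommRingCat.of k))) ⟶ A |
      Nonempty ((Scheme.Modules.pullback (tr x).left).obj L ≅ L)} := by
  obtain ⟨Z, j, hj, h⟩ := exists_locus (A := A) (mk L hamp.1)
  have hfin : IsFinite (j ≫ A.hom) := isFinite_locus L hamp j ((h Z j).1 ⟨𝟙 Z, Category.id_comp _⟩)
  have hZ : Finite Z := FinPts.finite_of_isFinite (j ≫ A.hom)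
  refine Set.Finite.of_finite_image (f := fun x => x.left (IsLocalRing.closedPoint k))
    ((Set.finite_range j).subset ?_) ?_
  · rintro _ ⟨x, ⟨e⟩, rfl⟩
    have hx : pl (tr x) (mk L hamp.1) = mk L hamp.1 := by
      rw [pull_mk _ hamp.1, mk_eq_iff]
      exact ⟨e⟩
    obtain ⟨g', hg'⟩ := (h _ x.left).2 (pull_fst_eq_one _ x hx)
    exact ⟨g' (IsLocalRing.closedPoint k), congrArg
      (fun φ : Spec (CommRingCat.of k) ⟶ A.left => φ (IsLocalRing.closedPoint k)) hg'⟩
  · intro x _ y _ hxy
    ext1
    exact FinPts.section_ext A.hom x.left y.left (Over.w x) (Over.w y) hxy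

end Groth.Agent.Sga7.H270.FinStab
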